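import Groth.Agent.S9727
import Groth.Agent.GalEt.GmGeneric
import Groth.Agent.Et18.StalkPush
import Groth.Agent.Et18.IntegralPush
import Groth.Agent.VarietyLib.DivisorGlue

/-!
# Cohomological dimension of curves over algebraically closed fields

Torsion sheaves have no étale cohomology in degrees `≥ 3` on a scheme of finite type and dimension at
most one over an algebraically closed field (no separatedness).
-/

set_option autoImplicit false
set_option linter.all false
set_option backward.isDefEq.respectTransparency.types false
set_option backward.isDefEq.respectTransparency false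
set_option backward.defeqAttrib.useBackward true
set_option synthInstance.maxHeartbeats 400000
set_option maxHeartbeats 1000000

universe u

open CategoryTheory CategoryTheory.Limits CategoryTheory.Abelian AlgebraicGeometry Opposite
open Groth.Agent.Et18

noncomputable section

namespace Groth.Agent.CdCurve24

/-- Étale schemes over a point of a scheme extend to étale neighbourhoods. -/
theorem bcLiftsEtale_fromSpecResidueField {X : Scheme.{u}} (s : X) :
    BCLiftsEtale (X.fromSpecResidueField s) := by
  intro V W q _ w
  have key : ∀ (x : V.left), V.hom x = s → ∀ (v : W), pullback.fst V.hom (X.fromSpecResidueField s) (q v) = x →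
    ∃ (W₁ : Scheme.{u}) (j : W₁ ⟶ W) (_ : IsOpenImmersion j) (_ : v ∈ Set.range j)
      (V' : Scheme.{u}) (p : V' ⟶ V.left) (_ : Etale p) (l : W₁ ⟶ V'),
        IsPullback l (j ≫ q) p (pullback.fst V.hom (X.fromSpecResidueField s)) := by
    intro x hx v hv
    subst hx
    have hv' : q v = V.hom.asFiber x :=
      (V.hom.fiberι (V.hom x)).isEmbedding.injective
        (hv.trans (Scheme.Hom.fiberι_asFiber V.hom x).symm)
    obtain ⟨U, p, u, m, u', hp, hu, hm, hmg, hu', hmv⟩ := Groth.Agent.S9727.result V.hom x q v hv'
    refine ⟨_, m, hm, ⟨u', hmv⟩, U, p, hp, (p ≫ V.hom).fiberι (V.hom x), ?_⟩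
    rw [hmg]
    refine IsPullback.of_bot ?_ ?_ (IsPullback.of_hasPullback V.hom (X.fromSpecResidueField (V.hom x)))
    · have := IsPullback.of_hasPullback (p ≫ V.hom) (X.fromSpecResidueField (V.hom x))
      rwa [show MoreMor.fiberMap p V.hom (V.hom x) ≫ pullback.snd V.hom (X.fromSpecResidueField (V.hom x)) =
        pullback.snd (p ≫ V.hom) (X.fromSpecResidueField (V.hom x)) from by
          simp [MoreMor.fiberMap]; rfl]
    · simp [MoreMor.fiberMap]
  refine key _ ?_ w rfl
  rw [← Scheme.Hom.comp_apply, pullback.condition, Scheme.Hom.comp_apply]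
  exact Scheme.fromSpecResidueField_apply s _

section Curve

variable {k : Type u} [Field k] [IsAlgClosed k] {X : Scheme.{u}} (f : X ⟶ Spec (CommRingCat.of k))
  [LocallyOfFiniteType f] (hdim : topologicalKrullDim X ≤ 1)

include f hdim in
/-- Residue fields of a scheme of dimension `≤ 1` over an algebraically closed field have trivial
Brauer groups. -/
theorem brTrivial_residueField (y : X) : GalEt.BrTrivial (X.residueField y : Type u) := by
  let φ := DimLib.baseRingHom f y
  letI : Algebra k (X.residueField y) := φ.toAlgebra
  have h1 : DimLib.ptDim f y ≤ 1 := by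
    have h := DimLib.height_eq_ptDim f y
    have h' : (Order.height y : WithBot ℕ∞) ≤ Order.krullDim X := Order.height_le_krullDim y
    rw [h, ← DimLib.topologicalKrullDim_eq_krullDim] at h'
    exact_mod_cast h'.trans hdim
  have h2 : DimLib.trdegHom (algebraMap k (X.residueField y)) ≤ 1 := h1
  rw [DimLib.trdegHom_algebraMap] at h2
  have hfin : Algebra.trdeg k (X.residueField y) < Cardinal.aleph0 := DimLib.trdeg_baseRingHom_lt f y
  obtain ⟨j, hj⟩ := Cardinal.lt_aleph0.1 hfin
  rw [hj, Cardinal.toNat_natCast] at h2
  have h4 := Groth.Agent.S0212.result k (X.residueField y) j hj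
  refine GalEt.brTrivial_of_isCr_one ?_
  intro n d g hg hd hn
  obtain ⟨a, ha, ha'⟩ := h4 1 n (fun _ => g) (fun _ => d) (fun _ => hg) (fun _ => hd) (by
    simp only [Finset.univ_unique, Finset.sum_singleton]
    interval_cases j
    · simp at hn ⊢; omega
    · simpa using hn)
  exact ⟨a, ha, ha' 0⟩

variable (η : X) (G : EtCoh.Ab (Spec (X.residueField η)))

local notation "jη" => X.fromSpecResidueField η

include f in
theorem quasiSeparatedSpace : QuasiSeparatedSpace X := by
  haveI : IsLocallyNoetherian X := LocallyOfFiniteType.isLocallyNoetherian f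
  infer_instance

include f in
theorem quasiCompact_fromSpecResidueField : QuasiCompact jη := by
  haveI := quasiSeparatedSpace f
  infer_instance

include f hdim in
/-- No cohomology of torsion sheaves above degree one on the étale schemes over a point. -/
theorem subsingleton_H_res (hG : EtCoh.IsTorsion G) (V : X.Etale) [IsAffine V.left] (q : ℕ) (hq : 2 ≤ q) :
    Subsingleton (EtCoh.H ((EtCoh.bc jη).obj V).left ((LocCoh.res ((EtCoh.bc jη).obj V)).obj G) q) := by
  classical
  haveI := quasiCompact_fromSpecResidueField f η
  let W := (EtCoh.bc jη).obj V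
  haveI : QuasiCompact (pullback.fst V.hom jη) :=
    MorphismProperty.pullback_fst (P := @QuasiCompact) _ _ inferInstance
  haveI : CompactSpace ((𝟭 Scheme.{u}).obj V.left) := inferInstanceAs (CompactSpace V.left)
  haveI : CompactSpace W.left := QuasiCompact.compactSpace_of_compactSpace (pullback.fst V.hom jη)
  let w : W.left ⟶ Spec (X.residueField η) := LocCoh.str W
  haveI := AlgSpLib.locallyQuasiFinite_of_etale w
  haveI : DiscreteTopology W.left := by
    have h := w.isDiscrete_preimage_singleton default
    have e : w ⁻¹' {default} = Set.univ := Set.eq_univ_of_forall fun v =>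
      @Subsingleton.elim (Spec (X.residueField η)) _ _ _
    rw [e] at h
    have := isDiscrete_univ_iff.1 h
    exact this
  haveI : Finite W.left := finite_of_compact_of_discrete
  letI : Fintype W.left := Fintype.ofFinite W.left
  let G' := (LocCoh.res W).obj G
  have hG' : EtAcyc.IsLTorsion Set.univ G' :=
    TorsionColim.isLTorsion_restr Set.univ W ((TorsionColim.isTorsion_iff G).1 hG)
  refine GalEt.subsingleton_H_of_points Finset.univ (fun x _ => isClosed_discrete _) G' (by simp) q fun x _ => ?_
  haveI : IsClosedImmersion (W.left.fromSpecResidueField x) :=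
    IsClosedImmersion.of_isPreimmersion _
      (by rw [Scheme.range_fromSpecResidueField]; exact isClosed_discrete _)
  let g : Spec (W.left.residueField x) ⟶ Spec (X.residueField η) := W.left.fromSpecResidueField x ≫ w
  obtain ⟨φ, hφ⟩ := Spec.map_surjective g
  let K : Type u := X.residueField η
  let L : Type u := W.left.residueField x
  letI : Algebra K L := φ.hom.toAlgebra
  haveI : Algebra.FiniteType K L := by
    have h : LocallyOfFiniteType (Spec.map φ) := hφ ▸ inferInstance
    exact RingHom.finiteType_algebraMap.1 ((HasRingHomProperty.Spec_iff (P := @LocallyOfFiniteType)).1 h)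
  haveI : Module.Finite K L := finite_of_finite_type_of_isJacobsonRing K L
  refine GalEt.subsingleton_H_torsion (K := L) (fun K' _ _ _ D _ _ _ _ => ?_) _
    ((TorsionColim.isTorsion_iff _).2 (CdField.isLTorsion_pull' _ hG')) q hq
  letI : Algebra K K' := ((algebraMap L K').comp (algebraMap K L)).toAlgebra
  haveI : IsScalarTower K L K' := IsScalarTower.of_algebraMap_eq' rfl
  haveI : FiniteDimensional K K' := Module.Finite.trans L K'
  exact brTrivial_residueField f hdim η K' D

include f hdim in
/-- `R^q j_* G = 0` for `q ≥ 2`. -/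
theorem isZero_Rpush (hG : EtCoh.IsTorsion G) (q : ℕ) : IsZero ((EtCoh.Rpush jη (q + 2)).obj G) :=
  GalEt.isZero_Rpush_succ jη G (q + 1) fun V hV =>
    haveI := hV
    subsingleton_H_res f hdim η G hG V (q + 2) (by omega)

/-- Cohomology of a direct image without higher direct images. -/
theorem subsingleton_H_push {X Y : Scheme.{u}} (j : X ⟶ Y) (M : EtCoh.Ab X)
    (hR : ∀ q, IsZero ((EtCoh.Rpush j (q + 1)).obj M)) (p : ℕ)
    (h : Subsingleton (EtCoh.H X M p)) : Subsingleton (EtCoh.H Y ((EtCoh.push j).obj M) p) := by
  haveI : (EtCoh.pull j).PreservesMonomorphisms := inferInstance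
  haveI : (EtCoh.push j).PreservesInjectiveObjects :=
    Functor.preservesInjectiveObjects_of_adjunction_of_preservesMonomorphisms (EtCoh.pullPushAdj j)
  let e := SiteCoh.extAdjEquiv (EtCoh.pullPushAdj j) (F := M) hR (EtCoh.const Y ℤ) p
  refine e.toEquiv.subsingleton_congr.2 ⟨fun a b => ?_⟩
  let c := EtCore.pullConst j ℤ
  have h0 : (Ext.mk₀ c.inv).comp a (zero_add p) = (Ext.mk₀ c.inv).comp b (zero_add p) :=
    @Subsingleton.elim _ h _ _
  have h1 := congrArg (fun w => (Ext.mk₀ c.hom).comp w (zero_add p)) h0
  simpa only [Ext.mk₀_comp_mk₀_assoc, Iso.hom_inv_id, Ext.mk₀_id_comp] using h1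

/-- Vanishing of the left end of a short exact sequence. -/
theorem subsingleton_left {Y : Scheme.{u}} {S : ShortComplex (EtCoh.Ab Y)} (hS : S.ShortExact) {n : ℕ}
    (h₃ : Subsingleton (EtCoh.H Y S.X₃ n)) (h₂ : Subsingleton (EtCoh.H Y S.X₂ (n + 1))) :
    Subsingleton (EtCoh.H Y S.X₁ (n + 1)) := by
  refine subsingleton_of_forall_eq 0 fun z => ?_
  obtain ⟨y, hy⟩ := Ext.covariant_sequence_exact₁ _ hS z (@Subsingleton.elim _ h₂ _ _) rfl
  rw [← hy, show y = 0 from @Subsingleton.elim _ h₃ _ _, Ext.zero_comp]

/-- Vanishing of the right end of a short exact sequence. -/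
theorem subsingleton_right {Y : Scheme.{u}} {S : ShortComplex (EtCoh.Ab Y)} (hS : S.ShortExact) {n : ℕ}
    (h₂ : Subsingleton (EtCoh.H Y S.X₂ n)) (h₁ : Subsingleton (EtCoh.H Y S.X₁ (n + 1))) :
    Subsingleton (EtCoh.H Y S.X₃ n) := by
  refine subsingleton_of_forall_eq 0 fun z => ?_
  obtain ⟨y, hy⟩ := Ext.covariant_sequence_exact₃ _ hS z rfl (@Subsingleton.elim _ h₁ _ _)
  rw [← hy, show y = 0 from @Subsingleton.elim _ h₂ _ _, Ext.zero_comp]

theorem subsingleton_H_injective {Y : Scheme.{u}} (I : EtCoh.Ab Y) [Injective I] (n : ℕ) :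
    Subsingleton (EtCoh.H Y I (n + 1)) :=
  subsingleton_of_forall_eq 0 fun z => Ext.eq_zero_of_injective z

include f hdim in
/-- A sheaf supported off the points under a nonclosed `η` is supported in closed points. -/
theorem isClosed_of_mem_supp_push (hη : ¬ IsClosed ({η} : Set X)) (M : EtCoh.Ab (Spec (X.residueField η)))
    (y : X) (hy : y ∈ EtPBC.supp ((EtCoh.push jη).obj M)) : y = η ∨ IsClosed ({y} : Set X) := by
  by_cases hyη : η ⤳ y
  · by_cases h : y = η
    · exact Or.inl h
    · exact Or.inr (VarietyLib.isClosed_of_specializes_ne hdim hyη (Ne.symm h))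
  exfalso
  refine (mem_supp_iff _ (sepPoint X y) (sepPoint_default X y)).1 hy ?_
  let U : X.Opens := ⟨(closure {η})ᶜ, isClosed_closure.isOpen_compl⟩
  refine isZero_stalk_push_of_disjoint jη M _ U ?_ ?_
  · rw [sepPoint_default]
    exact fun h => hyη (specializes_iff_mem_closure.2 h)
  · rw [Scheme.range_fromSpecResidueField, Set.disjoint_singleton_right]
    exact fun h => h (subset_closure rfl)

variable [QuasiCompact f]

include f hdim in
/-- `H^q(X, j_* G) = 0` for `q ≥ 3`. -/
theorem subsingleton_H_push_three (hη : ¬ IsClosed ({η} : Set X)) (hG : EtCoh.IsTorsion G) (q : ℕ) :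
    Subsingleton (EtCoh.H X ((EtCoh.push jη).obj G) (q + 3)) := by
  let π := cokernel.π (Injective.ι G)
  let S := ShortComplex.mk (Injective.ι G) π (cokernel.condition _)
  have hS : S.ShortExact :=
    { exact := ShortComplex.exact_cokernel _
      mono_f := inferInstanceAs (Mono (Injective.ι G))
      epi_g := inferInstanceAs (Epi (cokernel.π (Injective.ι G))) }
  let Q := cokernel (Injective.ι G)
  -- cohomology of the quotient on the point

  have hQη : ∀ n, Subsingleton (EtCoh.H (Spec (X.residueField η)) Q (n + 1)) := fun n =>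
    subsingleton_right hS (subsingleton_H_injective _ n)
      (GalEt.subsingleton_H_torsion (K := (X.residueField η : Type u)) (brTrivial_residueField f hdim η) G hG
        (n + 2) (by omega))
  have hQR : ∀ n, IsZero ((EtCoh.Rpush jη (n + 1)).obj Q) := fun n =>
    GalEt.isZero_Rpush_succ jη Q n fun V hV => by
      haveI := hV
      let W := (EtCoh.bc jη).obj V
      have hSW := hS.map_of_exact (LocCoh.res W)
      haveI : Injective ((LocCoh.res W).obj (Injective.under G)) := LocCoh.injective_res W _
      haveI : Injective (S.map (LocCoh.res W)).X₂ := this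
      exact subsingleton_right hSW (subsingleton_H_injective _ n)
        (subsingleton_H_res f hdim η G hG V (n + 2) (by omega))
  have hpQ : ∀ n, Subsingleton (EtCoh.H X ((EtCoh.push jη).obj Q) (n + 1)) := fun n =>
    subsingleton_H_push jη Q hQR (n + 1) (hQη n)
  haveI : (EtCoh.push jη).PreservesInjectiveObjects :=
    Functor.preservesInjectiveObjects_of_adjunction_of_preservesMonomorphisms (EtCoh.pullPushAdj jη)
  haveI : Injective ((EtCoh.push jη).obj (Injective.under G)) := Functor.PreservesInjectiveObjects.injective_obj inferInstance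
  let u := (EtCoh.push jη).map π
  -- the cokernel is supported in closed points
  have hR : ∀ y ∈ EtPBC.supp (cokernel u), IsClosed ({y} : Set X) := fun y hy => by
    by_contra hcl
    have hy' : y ∈ EtPBC.supp ((EtCoh.push jη).obj Q) := by
      rw [mem_supp_iff _ (sepPoint X y) (sepPoint_default X y)] at hy ⊢
      exact fun h => hy (IsZero.of_epi ((EtCoh.stalk (sepPoint X y)).map (cokernel.π u)) h)
    rcases isClosed_of_mem_supp_push f hdim η hη Q y hy' with e | h
    · haveI := isIso_counit (bcLiftsEtale_fromSpecResidueField (X := X) η)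
      haveI : Epi ((EtCoh.pull jη).map u) := by
        have e : (EtCoh.pull jη).map u ≫ (EtCoh.pullPushAdj jη).counit.app Q =
            (EtCoh.pullPushAdj jη).counit.app _ ≫ π := (EtCoh.pullPushAdj jη).counit.naturality π
        rw [← IsIso.eq_comp_inv] at e
        rw [e]
        infer_instance
      exact ClosedPointSupport.supp_subset_of_isZero_pull jη
        (IsZero.of_iso (isZero_cokernel_of_epi _) (PreservesCokernel.iso _ u)) hy
        ⟨default, (Scheme.fromSpecResidueField_apply _ _).trans e.symm⟩
    · exact hcl h
  have hRH : ∀ n, Subsingleton (EtCoh.H X (cokernel u) (n + 1)) := fun n =>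
    ClosedPointSupport.subsingleton_H f _ hR (n + 1) n.succ_pos
  let ι := Abelian.image.ι u
  let p := Abelian.factorThruImage u
  let S₂ := ShortComplex.mk ι (cokernel.π u) (kernel.condition _)
  have hS₂ : S₂.ShortExact :=
    { exact := ShortComplex.exact_kernel _
      mono_f := inferInstanceAs (Mono (Abelian.image.ι u))
      epi_g := inferInstanceAs (Epi (cokernel.π u)) }
  have hp : ((EtCoh.push jη).map (Injective.ι G)) ≫ p = 0 := by
    rw [← cancel_mono ι, Category.assoc, Abelian.image.fac, zero_comp, ← Functor.map_comp,
      cokernel.condition, Functor.map_zero]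
  let S₁ := ShortComplex.mk _ p hp
  have hS₁ : S₁.ShortExact := by
    haveI : Mono ((EtCoh.push jη).map (Injective.ι G)) := inferInstance
    have hk := (hS.exact.map_of_mono_of_preservesKernel (EtCoh.push jη) inferInstance inferInstance)
    exact
    { exact := by
        let φ : S₁ ⟶ S.map (EtCoh.push jη) :=
          { τ₁ := 𝟙 _
            τ₂ := 𝟙 _
            τ₃ := ι
            comm₁₂ := (Category.id_comp _).trans (Category.comp_id _).symm
            comm₂₃ := (Category.id_comp _).trans (Abelian.image.fac u).symm }
        haveI : Epi φ.τ₁ := inferInstanceAs (Epi (𝟙 _))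
        haveI : IsIso φ.τ₂ := inferInstanceAs (IsIso (𝟙 _))
        haveI : Mono φ.τ₃ := inferInstanceAs (Mono (Abelian.image.ι u))
        exact (ShortComplex.exact_iff_of_epi_of_isIso_of_mono φ).2 hk
      mono_f := inferInstanceAs (Mono ((EtCoh.push jη).map (Injective.ι G)))
      epi_g := inferInstanceAs (Epi (Abelian.factorThruImage u)) }
  exact subsingleton_left hS₁ (subsingleton_left hS₂ (hRH q) (hpQ (q + 1))) (subsingleton_H_injective _ (q + 2))

include f hdim in
/-- Torsion sheaves have no cohomology in degrees `≥ 3`. -/
theorem subsingleton_H_three (F : EtCoh.Ab X) (hF : EtCoh.IsTorsion F) (q : ℕ) :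
    Subsingleton (EtCoh.H X F (q + 3)) := by
  classical
  haveI : IsLocallyNoetherian X := LocallyOfFiniteType.isLocallyNoetherian f
  haveI : CompactSpace X := QuasiCompact.compactSpace_of_compactSpace f
  haveI : IsNoetherian X := {}
  suffices key : ∀ (T : Finset X) (F : EtCoh.Ab X), EtCoh.IsTorsion F →
      (∀ y ∈ EtPBC.supp F, y ∈ T ∨ IsClosed ({y} : Set X)) → Subsingleton (EtCoh.H X F (q + 3)) by
    have hfin : {y : X | ¬ IsClosed ({y} : Set X)}.Finite := by
      refine Set.Finite.of_finite_image (f := fun y => closure ({y} : Set X))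
        ((TopologicalSpace.NoetherianSpace.finite_irreducibleComponents (α := X)).subset ?_) ?_
      · rintro _ ⟨y, hy, rfl⟩
        refine ⟨isIrreducible_singleton.closure, fun Z hZ hle => ?_⟩
        obtain ⟨z, hz⟩ := QuasiSober.sober hZ.closure isClosed_closure
        have hzy : z ⤳ y := hz.specializes ?_
        · have e : z = y := by
            by_contra hne
            exact hy (VarietyLib.isClosed_of_specializes_ne hdim hzy hne)
          subst e
          exact (subset_closure (s := Z)).trans hz.def.symm.le
        · exact subset_closure (hle (subset_closure rfl))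
      · intro a _ b _ hab
        exact (Inseparable.eq (inseparable_iff_closure_eq.2 hab))
    exact key hfin.toFinset F hF fun y _ => (Classical.em (IsClosed ({y} : Set X))).symm.imp (fun h => hfin.mem_toFinset.2 h) id
  intro T
  induction T using Finset.induction_on with
  | empty => exact fun F _ h =>
      ClosedPointSupport.subsingleton_H f F (fun y hy => (h y hy).resolve_left (by simp)) _ (by omega)
  | insert η T _ ih =>
    intro F hF h
    by_cases hη : IsClosed ({η} : Set X)
    · exact ih F hF fun y hy => (h y hy).elim
        (fun h => (Finset.mem_insert.1 h).elim (fun e => Or.inr (e ▸ hη)) Or.inl) Or.inr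
    let j := X.fromSpecResidueField η
    haveI := isIso_counit (bcLiftsEtale_fromSpecResidueField (X := X) η)
    let u := (EtCoh.pullPushAdj j).unit.app F
    haveI : IsIso ((EtCoh.pull j).map u) := isIso_pull_map_unit_of_counit j F
    have hFl := (TorsionColim.isTorsion_iff F).1 hF
    have hGt : EtCoh.IsTorsion ((EtCoh.pull j).obj F) :=
      (TorsionColim.isTorsion_iff _).2 (CdField.isLTorsion_pull' j hFl)
    have hK : Subsingleton (EtCoh.H X (kernel u) (q + 3)) := by
      refine ih _ ((TorsionColim.isTorsion_iff _).2 (CdField.isLTorsion_of_mono (kernel.ι u) hFl)) fun y hy => ?_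
      rcases h y (ClosedPointSupport.supp_mono (kernel.ι u) hy) with h' | h'
      · refine (Finset.mem_insert.1 h').elim (fun e => ?_) Or.inl
        subst e
        exact absurd ⟨default, Scheme.fromSpecResidueField_apply _ _⟩
          (ClosedPointSupport.supp_subset_of_isZero_pull j
            (IsZero.of_iso (isZero_kernel_of_mono _) (PreservesKernel.iso _ u)) hy)
      · exact Or.inr h'
    have hC : ∀ y ∈ EtPBC.supp (cokernel u), IsClosed ({y} : Set X) := fun y hy => by
      have hy' : y ∈ EtPBC.supp ((EtCoh.push j).obj ((EtCoh.pull j).obj F)) := by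
        rw [mem_supp_iff _ (sepPoint X y) (sepPoint_default X y)] at hy ⊢
        exact fun h => hy (IsZero.of_epi ((EtCoh.stalk (sepPoint X y)).map (cokernel.π u)) h)
      refine (isClosed_of_mem_supp_push f hdim η hη _ y hy').resolve_left fun e => ?_
      subst e
      exact ClosedPointSupport.supp_subset_of_isZero_pull j
        (IsZero.of_iso (isZero_cokernel_of_epi _) (PreservesCokernel.iso _ u)) hy
        ⟨default, Scheme.fromSpecResidueField_apply _ _⟩
    let S₂ := ShortComplex.mk (Abelian.image.ι u) (cokernel.π u) (kernel.condition _)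
    have hS₂ : S₂.ShortExact :=
      { exact := ShortComplex.exact_kernel _
        mono_f := inferInstanceAs (Mono (Abelian.image.ι u))
        epi_g := inferInstanceAs (Epi (cokernel.π u)) }
    have hI : Subsingleton (EtCoh.H X (Abelian.image u) (q + 3)) :=
      subsingleton_left hS₂ (ClosedPointSupport.subsingleton_H f _ hC (q + 2) (by omega))
        (subsingleton_H_push_three f hdim η _ hη hGt q)
    have hkp : kernel.ι u ≫ Abelian.factorThruImage u = 0 := by
      rw [← cancel_mono (Abelian.image.ι u), Category.assoc, Abelian.image.fac, kernel.condition, zero_comp]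
    let S₁ := ShortComplex.mk (kernel.ι u) (Abelian.factorThruImage u) hkp
    have hS₁ : S₁.ShortExact := by
      let φ : S₁ ⟶ ShortComplex.mk (kernel.ι u) u (kernel.condition u) :=
        { τ₁ := 𝟙 _
          τ₂ := 𝟙 _
          τ₃ := Abelian.image.ι u
          comm₁₂ := (Category.id_comp _).trans (Category.comp_id _).symm
          comm₂₃ := (Category.id_comp _).trans (Abelian.image.fac u).symm }
      haveI : Epi φ.τ₁ := inferInstanceAs (Epi (𝟙 _))
      haveI : IsIso φ.τ₂ := inferInstanceAs (IsIso (𝟙 _))
      haveI : Mono φ.τ₃ := inferInstanceAs (Mono (Abelian.image.ι u))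
      exact
      { exact := (ShortComplex.exact_iff_of_epi_of_isIso_of_mono φ).2 (ShortComplex.exact_kernel _)
        mono_f := inferInstanceAs (Mono (kernel.ι u))
        epi_g := inferInstanceAs (Epi (Abelian.factorThruImage u)) }
    exact CdField.subsingleton_of_shortExact hS₁ hK hI

end Curve

end Groth.Agent.CdCurve24
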