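import Groth.Agent.CdCurve24.Basic
import Groth.Agent.AS24.Surj
import Groth.Agent.Et18.ShriekProper
import Groth.Agent.Et18.ConsColim
import Groth.Agent.Et18.FLC
import Groth.Agent.Et18.CdField
import Groth.Agent.LocImm12.ZMT
import Groth.Agent.AlgSpLib.DimBasic

/-!
# `p`-torsion sheaves on curves in characteristic `p`

Over an algebraically closed field of characteristic `p`, a `p`-power torsion sheaf on a separated
scheme of finite type of dimension at most one has no cohomology in degree two.
-/

set_option autoImplicit false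
set_option linter.all false
set_option backward.isDefEq.respectTransparency.types false
set_option backward.isDefEq.respectTransparency false
set_option backward.defeqAttrib.useBackward true
set_option synthInstance.maxHeartbeats 400000
set_option maxHeartbeats 1000000

universe u

open CategoryTheory CategoryTheory.Limits CategoryTheory.Abelian AlgebraicGeometry Opposite
open Groth.Agent.Et18

noncomputable section

namespace Groth.Agent.CdCurve24.PTor

theorem subsingleton_H_congr {Y : Scheme.{u}} {F G : EtCoh.Ab Y} (e : F ≅ G) (n : ℕ)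
    (h : Subsingleton (EtCoh.H Y F n)) : Subsingleton (EtCoh.H Y G n) :=
  haveI := h
  (((EtCoh.HF Y n).mapIso e).addCommGroupIsoToAddEquiv.toEquiv.subsingleton_congr).1 ‹_›

theorem subsingleton_H_biproduct {Y : Scheme.{u}} {ι : Type (u + 1)} [Finite ι] (G : ι → EtCoh.Ab Y)
    (n : ℕ) (h : ∀ i, Subsingleton (EtCoh.H Y (G i) n)) : Subsingleton (EtCoh.H Y (⨁ G) n) := by
  classical
  letI := Fintype.ofFinite ι
  refine subsingleton_of_forall_eq 0 fun x => ?_
  have key : ∀ s : Finset ι, x.comp (Ext.mk₀ (∑ i ∈ s, biproduct.π G i ≫ biproduct.ι G i)) (add_zero n) = 0 := by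
    intro s
    induction s using Finset.induction with
    | empty => rw [Finset.sum_empty, Ext.mk₀_zero, Ext.comp_zero]
    | insert a s ha ih =>
      rw [Finset.sum_insert ha, Ext.mk₀_add, Ext.comp_add, ih, add_zero, ← Ext.mk₀_comp_mk₀,
        ← Ext.comp_assoc_of_third_deg_zero]
      rw [show x.comp (Ext.mk₀ (biproduct.π G a)) (add_zero n) = 0 from @Subsingleton.elim _ (h a) _ _,
        Ext.zero_comp]
  have h1 := key Finset.univ
  have e : ∑ i, biproduct.π G i ≫ biproduct.ι G i = 𝟙 (⨁ G) := by
    exact IsBilimit.total (biproduct.isBilimit _)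
  rwa [e, Ext.comp_mk₀_id] at h1

/-- The structure morphism of an étale scheme. -/
abbrev str {X : Scheme.{u}} (W : X.Etale) : W.left ⟶ X := W.hom

section Curve

variable {k : Type u} [Field k] [IsAlgClosed k] (p : ℕ) [Fact p.Prime] [CharP k p]

/-- `H^2(T, j_! ℤ/p) = 0` for a dense open `j`. -/
theorem vanish_open {T U : Scheme.{u}} (g : T ⟶ Spec (CommRingCat.of k)) [IsSeparated g]
    [LocallyOfFiniteType g] [QuasiCompact g] (hdim : topologicalKrullDim T ≤ 1)
    (j : U ⟶ T) [IsOpenImmersion j] [EtShriek.JCont j] (hj : DenseRange j) :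
    Subsingleton (EtCoh.H T ((EtShriek.extZero j).obj (EtCoh.const U (ZMod p))) 2) := by
  haveI : IsLocallyNoetherian T := LocallyOfFiniteType.isLocallyNoetherian g
  haveI : CompactSpace T := QuasiCompact.compactSpace_of_compactSpace g
  haveI : IsNoetherian T := {}
  let F := EtCoh.const T (ZMod p)
  have h2 : Subsingleton (EtCoh.H T F 2) :=
    AS24.subsingleton_const_above_dim k p T g 1 (by exact_mod_cast hdim) 2 le_rfl
  let e : (EtShriek.restrAlong j).obj F ≅ EtCoh.const U (ZMod p) :=
    ((pullRestrIso j).app F).symm ≪≫ EtCore.pullConst j (ZMod p)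
  refine subsingleton_H_congr ((EtShriek.extZero j).mapIso e) 2 ?_
  let I := Scheme.IdealSheafData.vanishingIdeal
    (⟨(Set.range j)ᶜ, j.isOpenEmbedding.isOpen_range.isClosed_compl⟩ : TopologicalSpace.Closeds T)
  have hZU : Set.range j = (Set.range I.subschemeι)ᶜ := by
    rw [I.range_subschemeι]
    exact (compl_compl _).symm
  obtain ⟨w, hS⟩ := shortExact_recollement (i := I.subschemeι) hZU F
  refine subsingleton_left hS (n := 1) ?_ h2
  refine ClosedPointSupport.subsingleton_H g _ (fun y hy => ?_) 1 one_pos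
  have hyU : y ∉ Set.range j := fun hyr => by
    exact ClosedPointSupport.supp_subset_of_isZero_pull j (isZero_pull_push_compl hZU _) hy hyr
  obtain ⟨C, hC, hyC⟩ := exists_mem_irreducibleComponents_subset_of_isIrreducible _
    (isIrreducible_singleton (x := y)).closure
  obtain ⟨ξ, hξ⟩ := QuasiSober.sober hC.1 (isClosed_of_mem_irreducibleComponents C hC)
  obtain ⟨O, hO, hne, hOC⟩ :=
    TopologicalSpace.NoetherianSpace.exists_isOpen_nonempty_subset_irreducibleComponent C hC
  obtain ⟨v, hvO, hvU⟩ := hj.inter_open_nonempty _ hO hne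
  have hξU : ξ ∈ Set.range j :=
    (hξ.specializes (hOC hvO)).mem_open j.isOpenEmbedding.isOpen_range hvU
  exact VarietyLib.isClosed_of_specializes_ne hdim (hξ.specializes (hyC (subset_closure rfl)))
    fun e => hyU (e ▸ hξU)

variable {X : Scheme.{u}} (f : X ⟶ Spec (CommRingCat.of k)) [IsSeparated f] [LocallyOfFiniteType f]
  [QuasiCompact f] (hdim : topologicalKrullDim X ≤ 1)

include f hdim in
/-- `H^2(X, g_! ℤ/p) = 0` for `g` étale, affine source. -/
theorem vanish_etale (W : X.Etale) [IsAffine W.left] [EtShriek.JCont W.hom] :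
    Subsingleton (EtCoh.H X ((EtShriek.extZero W.hom).obj (EtCoh.const W.left (ZMod p))) 2) := by
  haveI : Etale W.hom := W.prop
  haveI : IsLocallyNoetherian X := LocallyOfFiniteType.isLocallyNoetherian f
  haveI : CompactSpace X := QuasiCompact.compactSpace_of_compactSpace f
  haveI : IsNoetherian X := {}
  haveI : X.IsSeparated := ⟨by
    rw [show terminal.from X = f ≫ terminal.from _ from terminal.hom_ext _ _]; infer_instance⟩
  let w : W.left ⟶ X := str W
  haveI : Etale w := W.prop
  haveI : IsSeparated w := by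
    haveI : IsSeparated (w ≫ terminal.from X) := by
      rw [terminal.hom_ext (w ≫ terminal.from X) (terminal.from W.left)]; infer_instance
    exact IsSeparated.of_comp w (terminal.from X)
  haveI : QuasiCompact w := by
    haveI : QuasiCompact (w ≫ terminal.from X) := by
      rw [terminal.hom_ext (w ≫ terminal.from X) (terminal.from W.left)]; infer_instance
    exact QuasiCompact.of_comp w (terminal.from X)
  obtain ⟨T₀, j₀, π₀, hj₀, hqc, hπ₀, e₀⟩ := LocImm12.exists_openImmersion_finite w
  haveI := hj₀; haveI := hqc; haveI := hπ₀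
  let j := j₀.toImage
  haveI : IsOpenImmersion j := inferInstanceAs (IsOpenImmersion j₀.toImage)
  haveI : EtShriek.JCont j := jCont j
  let π := j₀.imageι ≫ π₀
  haveI : IsFinite π := inferInstance
  have hjπ : j ≫ π = w := by
    show j₀.toImage ≫ j₀.imageι ≫ π₀ = w
    rw [Scheme.Hom.toImage_imageι_assoc, e₀]
  have hdense : DenseRange j := (inferInstance : IsDominant j₀.toImage).denseRange
  obtain ⟨e⟩ := nonempty_compactification j π
  let E : EtShriek.extZero W.hom ≅ EtShriek.extZero j ⋙ EtCoh.push π :=
    extZeroShriekIso w ≪≫ eqToIso (by rw [hjπ]) ≪≫ e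
  refine subsingleton_H_congr (E.app _).symm 2 ((CdField.subsingleton_H_push_iff π _ 2).2 ?_)
  haveI : IsSeparated (π ≫ f) := inferInstance
  haveI : LocallyOfFiniteType (π ≫ f) := inferInstance
  haveI : QuasiCompact (π ≫ f) := inferInstance
  exact vanish_open p (π ≫ f) ((AlgSpLib.topologicalKrullDim_le_of_isIntegralHom π).trans hdim) j hdense

include f hdim in
theorem vanish_etale_group (W : X.Etale) [IsAffine W.left] (A : AddCommGrpCat.{u + 1}) [Finite A]
    (hA : ∀ a : A, ∃ b : ℕ, p ^ b • a = 0) :
    haveI : Etale (str W) := W.prop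
    haveI : EtShriek.JCont (str W) := jCont (str W)
    Subsingleton (EtCoh.H X ((cst W.left ⋙ EtShriek.extZero (str W)).obj A) 2) := by
  haveI : Etale (str W) := W.prop
  haveI : EtShriek.JCont (str W) := jCont (str W)
  let Φ := cst W.left ⋙ EtShriek.extZero (str W)
  haveI : PreservesColimitsOfSize.{0, 0} (EtShriek.extZero (str W)) :=
    (EtShriek.extZeroAdj (str W)).leftAdjoint_preservesColimits
  haveI : PreservesFiniteColimits (EtShriek.extZero (str W)) :=
    PreservesColimitsOfSize.preservesFiniteColimits _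
  haveI : PreservesFiniteLimits (EtShriek.extZero (str W)) := Et18.extZero_preservesFiniteLimits (str W)
  haveI : (EtShriek.extZero (str W)).Additive := Functor.additive_of_preserves_binary_products _
  haveI : Φ.Additive := inferInstanceAs ((cst W.left ⋙ EtShriek.extZero (str W)).Additive)
  haveI : PreservesFiniteLimits Φ := comp_preservesFiniteLimits _ _
  haveI : PreservesFiniteColimits Φ := comp_preservesFiniteColimits _ _
  generalize hN : Nat.card A = N
  induction N using Nat.strong_induction_on generalizing A with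
  | _ N ih =>
    subst hN
    rcases subsingleton_or_nontrivial A with hA' | hA'
    · have hz : IsZero (Φ.obj A) := Φ.map_isZero (AddCommGrpCat.isZero_of_subsingleton A)
      refine subsingleton_of_forall_eq 0 fun z => ?_
      refine (Ext.comp_mk₀_id z).symm.trans ?_
      rw [hz.eq_of_src (𝟙 _) 0, Ext.mk₀_zero, Ext.comp_zero]
    · obtain ⟨i, hi⟩ := CdField.exists_mono_zmod (Fact.out : p.Prime) A hA
      have hsurj : Function.Surjective (cokernel.π i) :=
        (AddCommGrpCat.epi_iff_surjective _).1 inferInstance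
      haveI : Finite (cokernel i : AddCommGrpCat.{u + 1}) := Finite.of_surjective _ hsurj
      refine CdField.subsingleton_of_shortExact ((CdField.shortExact_cokernel i).map_of_exact Φ)
        (vanish_etale p f hdim W) ?_
      refine ih _ (CdField.card_cokernel_lt (Fact.out : p.Prime) i) (cokernel i) (fun q => ?_) rfl
      obtain ⟨a, rfl⟩ := hsurj q
      obtain ⟨b, hb⟩ := hA a
      exact ⟨b, by rw [← map_nsmul, hb, map_zero]⟩

/-- Powers of `p`. -/
def IsPPow (n : ℕ) : Prop := ∃ b, n = p ^ b

variable (F : EtCoh.Ab X)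

/-- Generators killed by powers of `p`. -/
abbrev Gen : Type (u + 1) := SectData (IsPPow p) F

variable {F}

/-- Finite sums of generators. -/
abbrev S (A : Finset (Gen p F)) : EtCoh.Ab X :=
  ⨁ fun d : A => EtPBC.extZeroConst d.1.W (ZMod d.1.n)

/-- Inclusion of sums. -/
def incl {A A' : Finset (Gen p F)} (h : A ⊆ A') : S p A ⟶ S p A' :=
  biproduct.desc fun d => biproduct.ι (fun d : A' => EtPBC.extZeroConst d.1.W (ZMod d.1.n)) ⟨d.1, h d.2⟩

/-- Evaluation. -/
def φ (A : Finset (Gen p F)) : S p A ⟶ F := biproduct.desc fun d => d.1.hom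

lemma incl_φ {A A' : Finset (Gen p F)} (h : A ⊆ A') : incl p h ≫ φ p A' = φ p A :=
  biproduct.hom_ext' _ _ fun d => by simp [incl, φ]

variable (F) in
/-- The images of finite sums. -/
def imDiagram : Finset (Gen p F) ⥤ EtCoh.Ab X where
  obj A := Limits.image (φ p A)
  map {A A'} g := Limits.image.lift
    { I := Limits.image (φ p A')
      m := Limits.image.ι _
      e := incl p (leOfHom g) ≫ factorThruImage (φ p A')
      fac := by rw [Category.assoc, Limits.image.fac, incl_φ] }
  map_id A := by
    rw [← cancel_mono (Limits.image.ι (φ p A)), Limits.image.lift_fac, Category.id_comp]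
  map_comp {A A' A''} g g' := by
    rw [← cancel_mono (Limits.image.ι (φ p A'')), Limits.image.lift_fac, Category.assoc, Limits.image.lift_fac, Limits.image.lift_fac]

variable (F) in
/-- The cocone of images. -/
def imCocone : Cocone (imDiagram p F) where
  pt := F
  ι :=
    { app := fun A => Limits.image.ι (φ p A)
      naturality := fun A A' g => by
        refine Eq.trans ?_ (Category.comp_id (Limits.image.ι (φ p A))).symm
        exact Limits.image.lift_fac _ }

include f hdim in
theorem subsingleton_H_two (hF : ∀ (U : X.Etale) (s : EtCoh.sect F U) (x : U.left),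
    ∃ (V : X.Etale) (g : V ⟶ U), (∃ v : V.left, g.left.base v = x) ∧ ∃ n : ℕ, (p ^ n) • (F.obj.map g.op s) = 0) :
    Subsingleton (EtCoh.H X F 2) := by
  classical
  haveI : IsLocallyNoetherian X := LocallyOfFiniteType.isLocallyNoetherian f
  haveI : CompactSpace X := QuasiCompact.compactSpace_of_compactSpace f
  haveI : IsNoetherian X := {}
  have hp0 : ∀ b : ℕ, 0 < p ^ b := fun b => pow_pos (Fact.out : p.Prime).pos b
  -- germs are killed by powers of `p`
  have hgerm : ∀ (x : X) (t : (EtCoh.stalk (sepPoint X x)).obj F), ∃ b : ℕ, p ^ b • t = 0 := fun x t => by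
    obtain ⟨U, v, s, rfl⟩ :=
      (Scheme.pointSmallEtale (sepPoint X x)).toPresheafFiber_jointly_surjective (P := F.obj) t
    obtain ⟨V, g, ⟨z, hz⟩, b, h0⟩ := hF U s (fiberPt v)
    refine ⟨b, (map_nsmul _ _ s).symm.trans ?_⟩
    exact germ_eq_zero_of_not_mem_sectSupp F (sepPoint X x) U (p ^ b • s) v fun hs =>
      hs V g ⟨z, hz⟩ ((map_nsmul _ _ s).trans h0)
  have hc : Nonempty (IsColimit (imCocone p F)) := by
    refine nonempty_isColimit_of_stalks _ (fun x a => ?_) fun x A b hb => ⟨A, 𝟙 A, ?_⟩
    · obtain ⟨b, hb⟩ := hgerm x a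
      obtain ⟨d, w, hd⟩ := exists_sectData (P := IsPPow p) (sepPoint X x) a (p ^ b) (hp0 b) ⟨b, rfl⟩ hb
      obtain ⟨z, hz⟩ := mem_range_stalk_sectData d w
      refine ⟨{d}, (EtCoh.stalk (sepPoint X x)).map
        (biproduct.ι (fun e : ({d} : Finset (Gen p F)) => EtPBC.extZeroConst e.1.W (ZMod e.1.n))
          ⟨d, Finset.mem_singleton_self d⟩ ≫ factorThruImage (φ p {d})) z, ?_⟩
      refine (stalk_map_map (h := d.hom) ?_ _ z).trans (hz.trans hd)
      show (biproduct.ι (fun e : ({d} : Finset (Gen p F)) => EtPBC.extZeroConst e.1.W (ZMod e.1.n))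
          ⟨d, Finset.mem_singleton_self d⟩ ≫ factorThruImage (φ p {d})) ≫ Limits.image.ι (φ p {d}) = d.hom
      rw [Category.assoc, Limits.image.fac]
      exact biproduct.ι_desc (fun e : ({d} : Finset (Gen p F)) => e.1.hom) _
    · have hb' : (EtCoh.stalk (sepPoint X x)).map (Limits.image.ι (φ p A)) b = 0 := hb
      haveI : Mono ((EtCoh.stalk (sepPoint X x)).map (Limits.image.ι (φ p A))) := inferInstance
      rw [CategoryTheory.Functor.map_id, CategoryTheory.Functor.map_id]
      exact (AddCommGrpCat.mono_iff_injective ((EtCoh.stalk (sepPoint X x)).map (Limits.image.ι (φ p A)))).mp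
        inferInstance (hb'.trans (map_zero _).symm)
  obtain ⟨hc⟩ := hc
  have := EtCechLib.preservesColimitsOfShape_HF (X := X) 2 (Finset (Gen p F))
  refine subsingleton_of_forall_eq 0 fun z => ?_
  obtain ⟨A, b, rfl⟩ := Concrete.isColimit_exists_rep _ (isColimitOfPreserves (EtCoh.HF X 2) hc) z
  suffices hI : Subsingleton (EtCoh.H X (Limits.image (φ p A)) 2) by
    rw [show b = 0 from @Subsingleton.elim _ hI _ _, map_zero]
  have hSA : Subsingleton (EtCoh.H X (S p A) 2) := by
    refine subsingleton_H_biproduct _ 2 fun d => ?_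
    obtain ⟨b, hb⟩ := d.1.prop
    haveI : IsAffine d.1.W.left := d.1.isAffine
    haveI : Etale d.1.W.hom := d.1.W.prop
    haveI : EtShriek.JCont d.1.W.hom := jCont d.1.W.hom
    haveI : NeZero d.1.n := ⟨d.1.pos.ne'⟩
    obtain ⟨e⟩ := nonempty_extZeroConst_iso d.1.W (ZMod d.1.n)
    refine subsingleton_H_congr e.symm 2 ?_
    exact vanish_etale_group p f hdim d.1.W (AddCommGrpCat.of (ULift.{u + 1} (ZMod d.1.n))) fun a =>
      ⟨b, ULift.down_injective (by
        change p ^ b • a.down = (0 : ZMod d.1.n)
        rw [nsmul_eq_mul, ← hb, ZMod.natCast_self, zero_mul])⟩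
  have hST : EtAcyc.IsLTorsion Set.univ (S p A) := by
    rw [isLTorsion_iff_stalks]
    intro Ω _ _ ξ t
    obtain ⟨m, ⟨em⟩⟩ := Finite.exists_equiv_fin A
    have hcons : EtPBC.IsConstructible (S p A) := isConstructible_of_iso
      (isConstructible_biproduct (fun i : Fin m => EtPBC.extZeroConst (em.symm i).1.W (ZMod (em.symm i).1.n))
        fun i =>
          haveI : NeZero (em.symm i).1.n := ⟨(em.symm i).1.pos.ne'⟩
          isConstructible_extZeroConst _ (em.symm i).1.isAffine _)
      (biproduct.whiskerEquiv (f := fun i : Fin m => EtPBC.extZeroConst (em.symm i).1.W (ZMod (em.symm i).1.n))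
        (g := fun d : A => EtPBC.extZeroConst d.1.W (ZMod d.1.n)) em.symm fun i => Iso.refl _)
    haveI := finite_stalk_of_isConstructible hcons ξ
    exact ⟨_, ⟨Nat.card_pos, fun q _ _ => trivial⟩, card_nsmul_eq_zero'⟩
  let q := factorThruImage (φ p A)
  have hS : (ShortComplex.mk (kernel.ι q) q (kernel.condition q)).ShortExact :=
    { exact := ShortComplex.exact_kernel q
      mono_f := inferInstanceAs (Mono (kernel.ι q))
      epi_g := inferInstanceAs (Epi (factorThruImage (φ p A))) }
  exact subsingleton_right hS hSA (subsingleton_H_three f hdim _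
    ((TorsionColim.isTorsion_iff _).2 (CdField.isLTorsion_of_mono (kernel.ι q) hST)) 0)

end Curve

end Groth.Agent.CdCurve24.PTor
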